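import Mathlib
import Groth.Prelude.Def_W4bk5brsh7111920

/-!
# Connectedness dimension of a Noetherian space via partitions of the irreducible components
-/

namespace Groth.Agent.Lib.Helper24.ConnDimComp

open TopologicalSpace Set

variable {T : Type*} [TopologicalSpace T]

/-- monotonicity of the dimension for subsets. -/
lemma dim_mono {Z Z' : Set T} (h : Z' ⊆ Z) : topologicalKrullDim Z' ≤ topologicalKrullDim Z :=
  (Topology.IsEmbedding.inclusion h).isInducing.topologicalKrullDim_le

lemma isClosed_sUnion_comps [NoetherianSpace T] {A : Set (Set T)}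
    (hA : A ⊆ irreducibleComponents T) : IsClosed (⋃₀ A) := by
  rw [Set.sUnion_eq_biUnion]
  exact (NoetherianSpace.finite_irreducibleComponents.subset hA).isClosed_biUnion
    (fun C hC => isClosed_of_mem_irreducibleComponents C (hA hC))

/-- an irreducible component contained in a union of components is one of them. -/
lemma mem_of_subset_sUnion [NoetherianSpace T] {C : Set T} (hC : C ∈ irreducibleComponents T)
    {B : Set (Set T)} (hB : B ⊆ irreducibleComponents T) (h : C ⊆ ⋃₀ B) : C ∈ B := by
  have hfin : B.Finite := NoetherianSpace.finite_irreducibleComponents.subset hB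
  have hirr : IsIrreducible C := hC.1
  obtain ⟨z, hz, hCz⟩ := (isIrreducible_iff_sUnion_isClosed.mp hirr) hfin.toFinset
    (fun z hz => isClosed_of_mem_irreducibleComponents z (hB (hfin.mem_toFinset.mp hz)))
    (by simpa using h)
  rw [hfin.mem_toFinset] at hz
  have : z ⊆ C := hC.2 (hB hz).1 hCz
  rw [Set.Subset.antisymm hCz this]
  exact hz

/-- if `A ∖ B` and `B ∖ A` are both nonempty, `⋃A ∩ ⋃B` disconnects `T`. -/
lemma not_isConnected_compl [NoetherianSpace T] {A B : Set (Set T)}
    (hA : A ⊆ irreducibleComponents T) (hB : B ⊆ irreducibleComponents T)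
    (hAB : A ∪ B = irreducibleComponents T)
    (h1 : ∃ C ∈ A, C ∉ B) (h2 : ∃ C ∈ B, C ∉ A) :
    ¬ IsConnected ((⋃₀ A ∩ ⋃₀ B)ᶜ : Set T) := by
  intro hc
  have hpre := hc.isPreconnected
  rw [isPreconnected_closed_iff] at hpre
  have hcov : ∀ x : T, x ∈ ⋃₀ A ∪ ⋃₀ B := by
    intro x
    have hx : irreducibleComponent x ∈ A ∪ B := by
      rw [hAB]; exact irreducibleComponent_mem_irreducibleComponents x
    rcases hx with hx | hx
    · exact Or.inl ⟨_, hx, mem_irreducibleComponent⟩
    · exact Or.inr ⟨_, hx, mem_irreducibleComponent⟩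
  -- a point of `⋃A` outside `⋃B`
  have hne1 : ((⋃₀ A ∩ ⋃₀ B)ᶜ ∩ ⋃₀ A).Nonempty := by
    obtain ⟨C, hCA, hCB⟩ := h1
    have : ¬ C ⊆ ⋃₀ B := fun h => hCB (mem_of_subset_sUnion (hA hCA) hB h)
    rw [Set.not_subset] at this
    obtain ⟨x, hxC, hxB⟩ := this
    exact ⟨x, fun h => hxB h.2, ⟨C, hCA, hxC⟩⟩
  have hne2 : ((⋃₀ A ∩ ⋃₀ B)ᶜ ∩ ⋃₀ B).Nonempty := by
    obtain ⟨C, hCB, hCA⟩ := h2
    have : ¬ C ⊆ ⋃₀ A := fun h => hCA (mem_of_subset_sUnion (hB hCB) hA h)
    rw [Set.not_subset] at this
    obtain ⟨x, hxC, hxA⟩ := this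
    exact ⟨x, fun h => hxA h.1, ⟨C, hCB, hxC⟩⟩
  obtain ⟨x, hx, hx'⟩ := hpre (⋃₀ A) (⋃₀ B) (isClosed_sUnion_comps hA) (isClosed_sUnion_comps hB)
    (fun x _ => hcov x) hne1 hne2
  exact hx hx'

theorem main (T : Type*) [TopologicalSpace T] [NoetherianSpace T] [Nonempty T] :
    LocCoh.connDim T = ⨅ (A : Set (Set T)) (B : Set (Set T))
      (_ : A ⊆ irreducibleComponents T ∧ B ⊆ irreducibleComponents T ∧ A.Nonempty ∧ B.Nonempty ∧
        A ∪ B = irreducibleComponents T), topologicalKrullDim ↥(⋃₀ A ∩ ⋃₀ B) := by
  apply le_antisymm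
  · -- every pair gives an admissible closed subset of at most the same dimension
    refine le_iInf (fun A => le_iInf (fun B => le_iInf (fun hQ => ?_)))
    obtain ⟨hA, hB, hAne, hBne, hAB⟩ := hQ
    unfold LocCoh.connDim
    by_cases h1 : ∃ C ∈ A, C ∉ B
    · by_cases h2 : ∃ C ∈ B, C ∉ A
      · exact iInf₂_le (⋃₀ A ∩ ⋃₀ B) ⟨(isClosed_sUnion_comps hA).inter (isClosed_sUnion_comps hB),
          not_isConnected_compl hA hB hAB h1 h2⟩
      · -- `B ⊆ A`, so `A` is everything
        push Not at h2
        have hAall : A = irreducibleComponents T := by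
          rw [← hAB]; exact (Set.union_eq_left.mpr h2).symm
        -- use the pair `(B', B)` with `B' = A \ B`
        set B' := A \ B with hB'
        have hB'sub : B' ⊆ irreducibleComponents T := fun C hC => hA hC.1
        have hB'B : B' ∪ B = irreducibleComponents T := by
          rw [hB', Set.sdiff_union_self, Set.union_eq_left.mpr h2, hAall]
        have h1' : ∃ C ∈ B', C ∉ B := by
          obtain ⟨C, hCA, hCB⟩ := h1
          exact ⟨C, ⟨hCA, hCB⟩, hCB⟩
        have h2' : ∃ C ∈ B, C ∉ B' := by
          obtain ⟨C, hC⟩ := hBne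
          exact ⟨C, hC, fun h => h.2 hC⟩
        refine (iInf₂_le (⋃₀ B' ∩ ⋃₀ B) ⟨(isClosed_sUnion_comps hB'sub).inter
          (isClosed_sUnion_comps hB), not_isConnected_compl hB'sub hB hB'B h1' h2'⟩).trans ?_
        apply dim_mono
        exact Set.inter_subset_inter_left _ (Set.sUnion_subset_sUnion Set.sdiff_subset)
    · -- `A ⊆ B`, so `B` is everything
      push Not at h1
      have hBall : B = irreducibleComponents T := by
        rw [← hAB]; exact (Set.union_eq_right.mpr h1).symm
      by_cases h3 : ∃ C ∈ B, C ∉ A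
      · set A' := B \ A with hA'
        have hA'sub : A' ⊆ irreducibleComponents T := fun C hC => hB hC.1
        have hAA' : A ∪ A' = irreducibleComponents T := by
          rw [hA', Set.union_sdiff_self, Set.union_eq_right.mpr h1, hBall]
        have h1' : ∃ C ∈ A, C ∉ A' := by
          obtain ⟨C, hC⟩ := hAne
          exact ⟨C, hC, fun h => h.2 hC⟩
        have h2' : ∃ C ∈ A', C ∉ A := by
          obtain ⟨C, hCB, hCA⟩ := h3
          exact ⟨C, ⟨hCB, hCA⟩, hCA⟩
        refine (iInf₂_le (⋃₀ A ∩ ⋃₀ A') ⟨(isClosed_sUnion_comps hA).inter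
          (isClosed_sUnion_comps hA'sub), not_isConnected_compl hA hA'sub hAA' h1' h2'⟩).trans ?_
        apply dim_mono
        exact Set.inter_subset_inter_right _ (Set.sUnion_subset_sUnion Set.sdiff_subset)
      · -- `A = B` is everything: the intersection is the whole space
        push Not at h3
        have hAall : A = irreducibleComponents T := by
          rw [← hBall]; exact Set.Subset.antisymm h1 h3
        have huniv : (⋃₀ A ∩ ⋃₀ B : Set T) = Set.univ := by
          rw [hAall, hBall, sUnion_irreducibleComponents, Set.inter_self]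
        refine (iInf₂_le (Set.univ : Set T) ⟨isClosed_univ, ?_⟩).trans (le_of_eq (by rw [huniv]))
        rw [Set.compl_univ]
        exact fun h => h.nonempty.ne_empty rfl
  · -- every admissible closed subset dominates some pair
    unfold LocCoh.connDim
    refine le_iInf₂ (fun Z hZ => ?_)
    obtain ⟨hZc, hZn⟩ := hZ
    by_cases hemp : (Zᶜ : Set T).Nonempty
    · -- `Zᶜ` is nonempty and not preconnected
      have hnp : ¬ IsPreconnected (Zᶜ : Set T) := fun h => hZn ⟨hemp, h⟩
      rw [isPreconnected_closed_iff] at hnp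
      push Not at hnp
      obtain ⟨F1, F2, hF1, hF2, hcov, hn1, hn2, hdisj⟩ := hnp
      set A : Set (Set T) := {C | C ∈ irreducibleComponents T ∧ C ⊆ Z ∪ F1} with hAdef
      set B : Set (Set T) := {C | C ∈ irreducibleComponents T ∧ C ⊆ Z ∪ F2} with hBdef
      have hall : ∀ C ∈ irreducibleComponents T, C ∈ A ∨ C ∈ B := by
        intro C hC
        have hsub : C ⊆ (Z ∪ F1) ∪ (Z ∪ F2) := by
          intro x _
          by_cases hx : x ∈ Z
          · exact Or.inl (Or.inl hx)
          · rcases hcov hx with h | h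
            · exact Or.inl (Or.inr h)
            · exact Or.inr (Or.inr h)
        rcases (isPreirreducible_iff_isClosed_union_isClosed.mp hC.1.isPreirreducible) _ _
          (hZc.union hF1) (hZc.union hF2) hsub with h | h
        · exact Or.inl ⟨hC, h⟩
        · exact Or.inr ⟨hC, h⟩
      have hAne : A.Nonempty := by
        obtain ⟨x, hxZ, hxF1⟩ := hn1
        have hC := irreducibleComponent_mem_irreducibleComponents x
        rcases hall _ hC with h | h
        · exact ⟨_, h⟩
        · exfalso
          rcases h.2 mem_irreducibleComponent with hx | hx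
          · exact hxZ hx
          · exact (Set.eq_empty_iff_forall_notMem.mp hdisj) x ⟨hxZ, hxF1, hx⟩
      have hBne : B.Nonempty := by
        obtain ⟨x, hxZ, hxF2⟩ := hn2
        have hC := irreducibleComponent_mem_irreducibleComponents x
        rcases hall _ hC with h | h
        · exfalso
          rcases h.2 mem_irreducibleComponent with hx | hx
          · exact hxZ hx
          · exact (Set.eq_empty_iff_forall_notMem.mp hdisj) x ⟨hxZ, hx, hxF2⟩
        · exact ⟨_, h⟩
      have hAB : A ∪ B = irreducibleComponents T := by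
        ext C
        constructor
        · rintro (h | h)
          · exact h.1
          · exact h.1
        · intro hC
          exact hall C hC
      refine iInf_le_of_le A (iInf_le_of_le B (iInf_le_of_le
        ⟨fun C hC => hC.1, fun C hC => hC.1, hAne, hBne, hAB⟩ ?_))
      apply dim_mono
      rintro x ⟨⟨C1, hC1, hx1⟩, ⟨C2, hC2, hx2⟩⟩
      by_contra hxZ
      rcases hC1.2 hx1 with h | h
      · exact hxZ h
      · rcases hC2.2 hx2 with h' | h'
        · exact hxZ h'
        · exact (Set.eq_empty_iff_forall_notMem.mp hdisj) x ⟨hxZ, h, h'⟩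
    · -- `Z` is the whole space
      rw [Set.not_nonempty_iff_eq_empty, Set.compl_empty_iff] at hemp
      have hne : (irreducibleComponents T).Nonempty :=
        ⟨_, irreducibleComponent_mem_irreducibleComponents (Classical.arbitrary T)⟩
      refine iInf_le_of_le (irreducibleComponents T) (iInf_le_of_le (irreducibleComponents T)
        (iInf_le_of_le ⟨le_rfl, le_rfl, hne, hne, Set.union_self _⟩ ?_))
      apply dim_mono
      rw [hemp]
      exact Set.subset_univ _

end Groth.Agent.Lib.Helper24.ConnDimComp
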