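import Mathlib
import Groth.Prelude.Def_W4bk5brsh7111920
import Groth.Agent.Lib.Helper24.ConnDim.Components

/-!
# Connectedness dimension is at most the subdimension, with equality iff irreducible
-/

namespace Groth.Agent.Lib.Helper24.ConnDimSub

open TopologicalSpace Set Groth.Agent.Lib.Helper24.ConnDimComp

variable {T : Type*} [TopologicalSpace T]

/-- a proper closed subset of an irreducible closed set has strictly smaller dimension
(when that dimension is finite). -/
lemma dim_add_one_le {C Z : Set T} (hC : IsIrreducible C) (hZ : IsClosed Z) (hZC : Z ⊆ C)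
    (hne : Z ≠ C) : topologicalKrullDim Z + 1 ≤ topologicalKrullDim C := by
  haveI : IrreducibleSpace ↥C := Subtype.irreducibleSpace hC
  let ι : ↥Z → ↥C := Set.inclusion hZC
  have hι : Topology.IsInducing ι := (Topology.IsEmbedding.inclusion hZC).isInducing
  let φ : IrreducibleCloseds ↥Z → IrreducibleCloseds ↥C := IrreducibleCloseds.map ι hι.continuous
  have hφ : StrictMono φ := IrreducibleCloseds.map_strictMono_of_isInducing hι
  let top : IrreducibleCloseds ↥C := ⟨Set.univ, IrreducibleSpace.isIrreducible_univ _, isClosed_univ⟩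
  -- the image of `Z` in `C` is a proper closed subset
  have hcl : IsClosed (Set.range ι) := by
    have : Set.range ι = Subtype.val ⁻¹' Z := by
      ext ⟨x, hx⟩
      simp only [Set.mem_range, Set.mem_preimage]
      constructor
      · rintro ⟨⟨y, hy⟩, hxy⟩
        have : y = x := congrArg Subtype.val hxy
        exact this ▸ hy
      · intro hxZ
        exact ⟨⟨x, hxZ⟩, rfl⟩
    rw [this]
    exact hZ.preimage continuous_subtype_val
  have hlt : ∀ W : IrreducibleCloseds ↥Z, φ W < top := by
    intro W
    rw [lt_iff_le_and_ne]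
    refine ⟨fun x _ => Set.mem_univ x, fun heq => ?_⟩
    have h1 : (φ W : Set ↥C) = Set.univ := congrArg (fun a : IrreducibleCloseds ↥C => (a : Set ↥C)) heq
    have h2 : (φ W : Set ↥C) ⊆ Set.range ι := by
      show closure (ι '' (W : Set ↥Z)) ⊆ Set.range ι
      exact closure_minimal (Set.image_subset_range _ _) hcl
    rw [h1] at h2
    apply hne
    apply Set.Subset.antisymm hZC
    intro x hx
    obtain ⟨⟨y, hy⟩, hxy⟩ := h2 (Set.mem_univ (⟨x, hx⟩ : ↥C))
    have : y = x := congrArg Subtype.val hxy
    exact this ▸ hy
  unfold topologicalKrullDim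
  refine le_trans ?_ (Order.height_le_krullDim top)
  by_cases hemp : IsEmpty (IrreducibleCloseds ↥Z)
  · rw [Order.krullDim_eq_bot]
    simp
  · rw [not_isEmpty_iff] at hemp
    obtain ⟨W0⟩ := hemp
    have hW : ∀ W : IrreducibleCloseds ↥Z, Order.height W + 1 ≤ Order.height top := fun W =>
      (add_le_add_left (Order.height_le_height_apply_of_strictMono φ hφ W) 1).trans
        (Order.height_add_one_le (hlt W))
    have h1le : 1 ≤ Order.height top := le_trans le_add_self (hW W0)
    have hk : Order.krullDim (IrreducibleCloseds ↥Z) ≤ ((Order.height top - 1 : ℕ∞) : WithBot ℕ∞) := by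
      rw [Order.krullDim_eq_iSup_height]
      apply iSup_le
      intro W
      exact_mod_cast ENat.le_sub_of_add_le_right ENat.one_ne_top (hW W)
    calc Order.krullDim (IrreducibleCloseds ↥Z) + 1
        ≤ ((Order.height top - 1 : ℕ∞) : WithBot ℕ∞) + 1 := add_le_add_left hk 1
      _ = ((Order.height top : ℕ∞) : WithBot ℕ∞) := by
        have : (Order.height top - 1 : ℕ∞) + 1 = Order.height top := tsub_add_cancel_of_le h1le
        exact_mod_cast congrArg (fun a : ℕ∞ => (a : WithBot ℕ∞)) this

lemma lt_of_add_one_le {a b : WithBot ℕ∞} (h : a + 1 ≤ b) (hb : b < ⊤) (hb' : b ≠ ⊥) : a < b := by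
  induction a using WithBot.recBotCoe with
  | bot => exact bot_lt_iff_ne_bot.mpr hb'
  | coe n =>
    induction b using WithBot.recBotCoe with
    | bot => exact absurd rfl hb'
    | coe k =>
      have hk : k ≠ ⊤ := by
        intro hk
        rw [hk] at hb
        exact lt_irrefl _ hb
      have h' : n + 1 ≤ k := by exact_mod_cast h
      exact_mod_cast (ENat.add_one_le_iff' hk).mp h'

theorem main (T : Type*) [TopologicalSpace T] [NoetherianSpace T] [Nonempty T]
    (hfin : topologicalKrullDim T < ⊤) :
    LocCoh.connDim T ≤ LocCoh.subdim T ∧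
      (LocCoh.connDim T = LocCoh.subdim T ↔ IrreducibleSpace T) := by
  have hcompsne : (irreducibleComponents T).Nonempty :=
    ⟨_, irreducibleComponent_mem_irreducibleComponents (Classical.arbitrary T)⟩
  have key1 : ∀ C ∈ irreducibleComponents T, LocCoh.connDim T ≤ topologicalKrullDim ↥C := by
    intro C hC
    rw [ConnDimComp.main T]
    refine iInf_le_of_le {C} (iInf_le_of_le (irreducibleComponents T) (iInf_le_of_le
      ⟨Set.singleton_subset_iff.mpr hC, le_rfl, Set.singleton_nonempty C, hcompsne,
        Set.union_eq_right.mpr (Set.singleton_subset_iff.mpr hC)⟩ ?_))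
    apply dim_mono
    rw [Set.sUnion_singleton]
    exact Set.inter_subset_left
  have part1 : LocCoh.connDim T ≤ LocCoh.subdim T := by
    unfold LocCoh.subdim
    exact le_iInf₂ key1
  refine ⟨part1, ?_⟩
  -- a component of minimal dimension
  obtain ⟨C0, hC0, hmin⟩ := Set.exists_min_image (irreducibleComponents T)
    (fun C => topologicalKrullDim ↥C) NoetherianSpace.finite_irreducibleComponents hcompsne
  have hsub : LocCoh.subdim T = topologicalKrullDim ↥C0 := by
    unfold LocCoh.subdim
    exact le_antisymm (iInf₂_le C0 hC0) (le_iInf₂ hmin)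
  constructor
  · intro heq
    by_contra hirr
    have hC0univ : C0 ≠ Set.univ := by
      intro h
      apply hirr
      rw [irreducibleSpace_def]
      show IsIrreducible (Set.univ : Set T)
      rw [← h]
      exact hC0.1
    set A' : Set (Set T) := irreducibleComponents T \ {C0} with hA'
    have hA'sub : A' ⊆ irreducibleComponents T := Set.sdiff_subset
    have hA'ne : A'.Nonempty := by
      have : ∃ x, x ∉ C0 := by
        by_contra hcon
        push Not at hcon
        exact hC0univ (Set.eq_univ_of_forall hcon)
      obtain ⟨x, hx⟩ := this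
      refine ⟨irreducibleComponent x, irreducibleComponent_mem_irreducibleComponents x, ?_⟩
      intro h
      rw [Set.mem_singleton_iff] at h
      exact hx (h ▸ mem_irreducibleComponent)
    have hunion : {C0} ∪ A' = irreducibleComponents T := by
      rw [hA', Set.union_sdiff_self, Set.union_eq_right.mpr (Set.singleton_subset_iff.mpr hC0)]
    set Z' : Set T := C0 ∩ ⋃₀ A' with hZ'
    have h1 : LocCoh.connDim T ≤ topologicalKrullDim ↥Z' := by
      rw [ConnDimComp.main T]
      refine iInf_le_of_le {C0} (iInf_le_of_le A' (iInf_le_of_le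
        ⟨Set.singleton_subset_iff.mpr hC0, hA'sub, Set.singleton_nonempty C0, hA'ne, hunion⟩ ?_))
      rw [Set.sUnion_singleton]
    have hZ'cl : IsClosed Z' :=
      (isClosed_of_mem_irreducibleComponents C0 hC0).inter (isClosed_sUnion_comps hA'sub)
    have hZ'ne : Z' ≠ C0 := by
      intro h
      have hsubset : C0 ⊆ ⋃₀ A' := by
        rw [← h]; exact Set.inter_subset_right
      have := mem_of_subset_sUnion hC0 hA'sub hsubset
      exact this.2 rfl
    have h2 := dim_add_one_le hC0.1 hZ'cl Set.inter_subset_left hZ'ne
    have h3 : topologicalKrullDim ↥C0 < ⊤ :=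
      lt_of_le_of_lt (topologicalKrullDim_subspace_le T C0) hfin
    have h4 : topologicalKrullDim ↥C0 ≠ ⊥ := by
      obtain ⟨x, hx⟩ := hC0.1.nonempty
      unfold topologicalKrullDim
      haveI : Nonempty (IrreducibleCloseds ↥C0) :=
        ⟨⟨closure {⟨x, hx⟩}, isIrreducible_singleton.closure, isClosed_closure⟩⟩
      exact ne_of_gt (lt_of_lt_of_le (WithBot.bot_lt_coe 0) Order.krullDim_nonneg)
    have h5 := lt_of_add_one_le h2 h3 h4
    rw [heq, hsub] at h1
    exact absurd (lt_of_le_of_lt h1 h5) (lt_irrefl _)
  · intro hirr
    apply le_antisymm part1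
    rw [ConnDimComp.main T]
    refine le_iInf (fun A => le_iInf (fun B => le_iInf (fun hQ => ?_)))
    obtain ⟨hA, hB, hAne, hBne, -⟩ := hQ
    have hsing : irreducibleComponents T = {Set.univ} := irreducibleComponents_eq_singleton
    have hAeq : A = {Set.univ} := by
      apply Set.Subset.antisymm (hsing ▸ hA)
      obtain ⟨C, hC⟩ := hAne
      have : C = Set.univ := by
        have := hA hC
        rw [hsing] at this
        exact this
      rw [Set.singleton_subset_iff, ← this]
      exact hC
    have hBeq : B = {Set.univ} := by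
      apply Set.Subset.antisymm (hsing ▸ hB)
      obtain ⟨C, hC⟩ := hBne
      have : C = Set.univ := by
        have := hB hC
        rw [hsing] at this
        exact this
      rw [Set.singleton_subset_iff, ← this]
      exact hC
    have huniv : (Set.univ : Set T) ∈ irreducibleComponents T := by rw [hsing]; rfl
    unfold LocCoh.subdim
    refine (iInf₂_le (Set.univ : Set T) huniv).trans (le_of_eq ?_)
    rw [hAeq, hBeq, Set.sUnion_singleton, Set.inter_self]

end Groth.Agent.Lib.Helper24.ConnDimSub
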